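import Cfsg.Agent.Lib.Spor.SchurCert.PermBridge
import Cfsg.Agent.Lib.Lie.Mult.Sylow

/-!
Certificates of the prime parts of a multiplier for a packed permutation group of known order.
-/

set_option autoImplicit false

namespace CfsgLib.Spor.Mults

open CfsgLib.Spor.PermCert CfsgLib.Spor.SchurCert

/-- A packed permutation group of known order with exact orbits along a base. -/
structure Packed {n : ℕ} [NeZero n] (w : ℕ) (R : Rows) (len : ℕ) (bs : List ℕ) (Ts : List (List ℕ))
    (H : Subgroup (Equiv.Perm (Fin n))) : Prop where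
  mem : ∀ k < len, ∃ g ∈ H, Matches w g R k
  chain : chainOK n w R len [] bs Ts = true
  card : Nat.card ↥H = (Ts.map List.length).prod
  lt : ∀ b ∈ bs, b < n

/-- A packed group from its generators. -/
theorem Packed.of_gens {n : ℕ} [NeZero n] {w : ℕ} {R : Rows} {len k : ℕ} {ops : List (ℕ × ℕ)} {bs : List ℕ}
    {Ts : List (List ℕ)} {H : Subgroup (Equiv.Perm (Fin n))} {N : ℕ} (hgen : ∀ j < k, ∃ g ∈ H, Matches w g R j)
    (hops : opsOK n w R ops k = true) (hlen : k + ops.length = len) (hchain : chainOK n w R len [] bs Ts = true)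
    (hsize : (Ts.map List.length).prod = N) (hcard : Nat.card ↥H = N) (hlt : ∀ b ∈ bs, b < n) :
    Packed w R len bs Ts H where
  mem j hj := exists_of_ops hops H hgen j (by rw [hlen]; exact hj)
  chain := hchain
  card := by rw [hcard, hsize]
  lt := hlt

variable {n : ℕ} [NeZero n] {w : ℕ} {R : Rows} {len : ℕ} {bs : List ℕ} {Ts : List (List ℕ)}
  {H : Subgroup (Equiv.Perm (Fin n))}

/-- The generators generate. -/
theorem Packed.closure_eq (D : Packed w R len bs Ts H) {K : Subgroup (Equiv.Perm (Fin n))} (hle : K ≤ H)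
    (hmem : ∀ j < len, ∃ g ∈ K, Matches w g R j) : K = H := by
  refine Subgroup.eq_of_le_of_card_ge hle ?_
  have h := card_chain hmem D.chain
  rw [← D.card] at h
  exact le_trans (Nat.le_mul_of_pos_right _ Nat.card_pos) h

variable {Γ : Type*} [Group Γ] [Finite Γ]

/-- Nothing remains at the prime of the certificate. -/
theorem Packed.not_dvd (D : Packed w R len bs Ts H) {σ : Γ →* ↥H} (hσ : Cfsg.IsStemExtension σ) (C : Cert)
    [Fact C.p.Prime] (sw gw : List (List ℕ)) (T : List (ℕ × List (ℕ × List ℕ))) (hN : C.N = C.p)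
    (hb : C.base.isEmpty = true) (hfac : (Nat.card ↥H).factorization C.p = C.m)
    (hid : identPerm w R len bs C sw gw = true) (hsub : subPermOK n w R sw [] T = true)
    (hT : C.p ^ C.m ≤ (T.map fun e => e.2.length).prod) (hshape : C.shapeOK = true) (hlin : C.linOK = true) :
    ¬ C.p ∣ Nat.card σ.ker := by
  obtain ⟨γ, conj, h1, h2, h3, h4⟩ :=
    perm_facts D.mem D.chain D.card D.lt C sw gw T hfac hid hsub hT hshape
  exact not_dvd_ker C hσ hN hb γ conj h1 h2 hshape hlin h3 h4

/-- The bound at the prime of the certificate. -/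
theorem Packed.card_le (D : Packed w R len bs Ts H) {σ : Γ →* ↥H} (hσ : Cfsg.IsStemExtension σ) (C : Cert)
    [Fact C.p.Prime] (sw gw : List (List ℕ)) (T : List (ℕ × List (ℕ × List ℕ))) {e : ℕ} (hN : C.N = C.p ^ e)
    (hb : C.bound < C.N) (hfac : (Nat.card ↥H).factorization C.p = C.m)
    (hid : identPerm w R len bs C sw gw = true) (hsub : subPermOK n w R sw [] T = true)
    (hT : C.p ^ C.m ≤ (T.map fun e => e.2.length).prod) (hshape : C.shapeOK = true) (hlin : C.linOK = true)
    (P : Subgroup Γ) (hP : P ≤ σ.ker) (hPp : IsPGroup C.p P) : Nat.card P ≤ C.bound := by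
  obtain ⟨γ, conj, h1, h2, h3, h4⟩ :=
    perm_facts D.mem D.chain D.card D.lt C sw gw T hfac hid hsub hT hshape
  exact pGroup_card_le C hσ hN hb γ conj h1 h2 hshape hlin h3 h4 P hP hPp

/-- A prime not dividing the order of the group does not divide the kernel. -/
theorem not_dvd_of_not_dvd {G : Type*} [Group G] [Finite G] {σ : Γ →* G} (hσ : Cfsg.IsStemExtension σ) {ℓ N : ℕ}
    [Fact ℓ.Prime] (hG : Nat.card G = N) (h : ¬ ℓ ∣ N) : ¬ ℓ ∣ Nat.card σ.ker := by
  refine Lie.Mult.not_dvd_ker_of_cyclic hσ ⊥ ?_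
  rwa [Subgroup.index_bot, hG]

/-- Factor a number at a prime. -/
theorem factor_of {N p a b : ℕ} (hp : p.Prime) (hb : ¬ p ∣ b) (e : N = p ^ a * b) : N.factorization p = a := by
  have h0 : b ≠ 0 := by rintro rfl; simp at hb
  rw [e, Nat.factorization_mul (pow_ne_zero _ hp.ne_zero) h0, Nat.factorization_pow, Finsupp.add_apply,
    Finsupp.smul_apply, hp.factorization_self, Nat.factorization_eq_zero_of_not_dvd hb]
  simp

end CfsgLib.Spor.Mults
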