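import Cfsg.Agent.Lib.Spor.TC.CheckWide
import Cfsg.Agent.Lib.Spor.Mults.Basic
import Cfsg.Prelude.Def_KGroupFacts

/-!
A stem extension from lifts of presented involutions to permutations commuting with a shift, with the relators
checked at representatives of the cycles of the shift.
-/

set_option autoImplicit false

namespace CfsgLib.Spor.Mults.Cover

open CfsgLib.Spor.TC
open scoped commutatorElement

/-- The image of a point along a word, the last letter acting first. -/
noncomputable def walk (T : ℕ → ℕ → ℕ) (w : List ℕ) (c : ℕ) : ℕ :=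
  List.rec (motive := fun _ => ℕ) c (fun x _ ih => T x ih) w

/-- A repeated shift. -/
noncomputable def shiftPow (zf : ℕ → ℕ) (e c : ℕ) : ℕ := Nat.rec (motive := fun _ => ℕ) c (fun _ ih => zf ih) e

/-- Conjunction along a list. -/
noncomputable def allB {α : Type} (f : α → Bool) (l : List α) : Bool :=
  List.rec (motive := fun _ => Bool) true (fun a _ ih => f a && ih) l

theorem allB_spec {α : Type} {f : α → Bool} : ∀ {l : List α}, allB f l = true → ∀ a ∈ l, f a = true := by
  intro l
  induction l with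
  | nil => intro _ a ha; simp at ha
  | cons b l ih =>
    intro h a ha
    change (f b && allB f l) = true at h
    simp only [Bool.and_eq_true] at h
    rcases List.mem_cons.1 ha with rfl | ha
    · exact h.1
    · exact ih h.2 a ha

/-- The lifts: letters with the exponents of their squares, relators with their exponents. -/
structure Data where
  N : ℕ
  d : ℕ
  k : ℕ
  R : ℕ
  T : ℕ → ℕ → ℕ
  zf : ℕ → ℕ
  rep : ℕ → ℕ
  idx : ℕ → ℕ
  sh : ℕ → ℕ
  sq : List ℕ
  rels : List (PowRel × ℕ)

variable (D : Data)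

/-- Checks at a point: the shift has order dividing `d`, the letters commute with it, and the point is a shift
of a representative. -/
noncomputable def Data.pointOK (c : ℕ) : Bool :=
  Nat.blt (D.zf c) D.N && Nat.beq (shiftPow D.zf D.d c) c && Nat.blt (D.idx c) D.R &&
    Nat.beq (shiftPow D.zf (D.sh c) (D.rep (D.idx c))) c &&
    allB (fun x => Nat.blt (D.T x c) D.N && Nat.beq (D.T x (D.zf c)) (D.zf (D.T x c))) (List.range D.k)

/-- Checks at a representative: squares and relators give powers of the shift. -/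
noncomputable def Data.repOK (i : ℕ) : Bool :=
  Nat.blt (D.rep i) D.N &&
    allB (fun x => Nat.beq (D.T x (D.T x (D.rep i))) (shiftPow D.zf (D.sq.getD x 0) (D.rep i))) (List.range D.k) &&
    allB (fun r => Nat.beq (walk D.T (powWord r.1.1 r.1.2) (D.rep i)) (shiftPow D.zf r.2 (D.rep i))) D.rels

/-- A combination of squares and relators with all letter counts divisible by `d`. -/
def Data.combOK (cs : List ℕ) (cr : List ℕ) : Bool :=
  ((List.range D.k).all fun x =>
      ((2 * cs.getD x 0 + ((List.range D.rels.length).map fun r =>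
        cr.getD r 0 * ((D.rels.getD r (([], 0), 0)).1.2 * (D.rels.getD r (([], 0), 0)).1.1.count x)).sum) % D.d) == 0) &&
    ((((List.range D.k).map fun x => cs.getD x 0 * D.sq.getD x 0).sum +
      ((List.range D.rels.length).map fun r => cr.getD r 0 * (D.rels.getD r (([], 0), 0)).2).sum) % D.d == 1)

/-- The witnesses of the order of the shift. -/
def Data.orderOK (ps : List ℕ) : Bool :=
  (ps.all fun p => Nat.blt p D.N) &&
    (List.range D.d).all fun j => j == 0 || ps.any fun p => !(Nat.rec (motive := fun _ => ℕ) p (fun _ ih => D.zf ih) j == p)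

/-- All letters of the relators are listed. -/
def Data.lettersOK : Bool := Nat.blt 0 D.d && D.rels.all fun r => r.1.1.all fun x => Nat.blt x D.k

/-- Everything checked about the lifts. -/
structure Data.OK : Prop where
  point : ∀ c, c < D.N → D.pointOK c = true
  rep : ∀ i, i < D.R → D.repOK i = true
  letters : D.lettersOK = true

namespace Data.OK

variable {D} (h : D.OK)

include h

theorem zlt {c : ℕ} (hc : c < D.N) : D.zf c < D.N := by
  have := h.point c hc
  simp only [Data.pointOK, Bool.and_eq_true] at this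
  exact Nat.le_of_ble_eq_true this.1.1.1.1

theorem zpow {c : ℕ} (hc : c < D.N) : shiftPow D.zf D.d c = c := by
  have := h.point c hc
  simp only [Data.pointOK, Bool.and_eq_true] at this
  exact Nat.eq_of_beq_eq_true this.1.1.1.2

theorem cover {c : ℕ} (hc : c < D.N) : D.idx c < D.R ∧ shiftPow D.zf (D.sh c) (D.rep (D.idx c)) = c := by
  have := h.point c hc
  simp only [Data.pointOK, Bool.and_eq_true] at this
  exact ⟨Nat.le_of_ble_eq_true this.1.1.2, Nat.eq_of_beq_eq_true this.1.2⟩

theorem letter {c x : ℕ} (hc : c < D.N) (hx : x < D.k) : D.T x c < D.N ∧ D.T x (D.zf c) = D.zf (D.T x c) := by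
  have := h.point c hc
  simp only [Data.pointOK, Bool.and_eq_true] at this
  have h2 := allB_spec this.2 x (List.mem_range.2 hx)
  simp only [Bool.and_eq_true] at h2
  exact ⟨Nat.le_of_ble_eq_true h2.1, Nat.eq_of_beq_eq_true h2.2⟩

theorem shiftPow_lt {c : ℕ} (hc : c < D.N) : ∀ e, shiftPow D.zf e c < D.N
  | 0 => hc
  | e + 1 => h.zlt (shiftPow_lt hc e)

/-- The shift as a permutation. -/
noncomputable def zPerm : Equiv.Perm (Fin D.N) :=
  Equiv.ofBijective (fun c => ⟨D.zf c.1, h.zlt c.2⟩) (Finite.injective_iff_bijective.1 fun a b e => by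
    have e' : D.zf a.1 = D.zf b.1 := congrArg Fin.val e
    have key : ∀ n c, shiftPow D.zf (n + 1) c = shiftPow D.zf n (D.zf c) := by
      intro n c
      induction n with
      | zero => rfl
      | succ n ih => exact congrArg D.zf ih
    have hd : 0 < D.d := by
      have := h.letters
      simp only [Data.lettersOK, Bool.and_eq_true] at this
      exact Nat.le_of_ble_eq_true this.1
    obtain ⟨n, hn⟩ : ∃ n, D.d = n + 1 := ⟨D.d - 1, by omega⟩
    refine Fin.ext ?_
    rw [← h.zpow a.2, ← h.zpow b.2, hn, key, key, e'])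

theorem zPerm_apply (c : Fin D.N) : (h.zPerm c).1 = D.zf c.1 := rfl

theorem zPerm_pow : ∀ (e : ℕ) (c : Fin D.N), ((h.zPerm ^ e) c).1 = shiftPow D.zf e c.1
  | 0, c => rfl
  | e + 1, c => by
    rw [pow_succ', Equiv.Perm.mul_apply, h.zPerm_apply, zPerm_pow e c]
    rfl

theorem zPerm_order : h.zPerm ^ D.d = 1 :=
  Equiv.ext fun c => Fin.ext (by rw [h.zPerm_pow, h.zpow c.2]; rfl)

theorem comm_pow {x : ℕ} (hx : x < D.k) {c : ℕ} (hc : c < D.N) :
    ∀ e, D.T x (shiftPow D.zf e c) = shiftPow D.zf e (D.T x c)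
  | 0 => rfl
  | e + 1 => by
    show D.T x (D.zf (shiftPow D.zf e c)) = D.zf (shiftPow D.zf e (D.T x c))
    rw [(h.letter (h.shiftPow_lt hc e) hx).2, comm_pow hx hc e]

theorem sq_apply {x : ℕ} (hx : x < D.k) {c : ℕ} (hc : c < D.N) :
    D.T x (D.T x c) = shiftPow D.zf (D.sq.getD x 0) c := by
  obtain ⟨hi, hc'⟩ := h.cover hc
  have hr := h.rep _ hi
  simp only [Data.repOK, Bool.and_eq_true] at hr
  have hp : D.rep (D.idx c) < D.N := Nat.le_of_ble_eq_true hr.1.1
  rw [← hc', h.comm_pow hx hp, h.comm_pow hx (h.letter hp hx).1,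
    Nat.eq_of_beq_eq_true (allB_spec hr.1.2 x (List.mem_range.2 hx))]
  have key : ∀ (a b : ℕ) (p : ℕ), shiftPow D.zf a (shiftPow D.zf b p) = shiftPow D.zf (a + b) p := by
    intro a b p
    induction a with
    | zero => rw [Nat.zero_add]; rfl
    | succ a ih => rw [Nat.succ_add]; exact congrArg D.zf ih
  rw [key, key, Nat.add_comm]

/-- A lift as a permutation. -/
noncomputable def lPerm (x : ℕ) : Equiv.Perm (Fin D.N) :=
  if hx : x < D.k then
    Equiv.ofBijective (fun c => ⟨D.T x c.1, (h.letter c.2 hx).1⟩) (Finite.injective_iff_bijective.1 fun a b e => by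
      have e' : D.T x a.1 = D.T x b.1 := congrArg Fin.val e
      refine (h.zPerm ^ D.sq.getD x 0).injective (Fin.ext ?_)
      rw [h.zPerm_pow, h.zPerm_pow, ← h.sq_apply hx a.2, ← h.sq_apply hx b.2, e'])
  else 1

theorem lPerm_apply {x : ℕ} (hx : x < D.k) (c : Fin D.N) : (h.lPerm x c).1 = D.T x c.1 := by
  rw [lPerm, dif_pos hx]
  rfl

theorem commute_z (x : ℕ) : Commute h.zPerm (h.lPerm x) := by
  by_cases hx : x < D.k
  · refine Equiv.ext fun c => Fin.ext ?_
    rw [Equiv.Perm.mul_apply, Equiv.Perm.mul_apply, h.zPerm_apply, h.lPerm_apply hx, h.lPerm_apply hx,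
      h.zPerm_apply, (h.letter c.2 hx).2]
  · rw [lPerm, dif_neg hx]
    exact Commute.one_right _

theorem ev_apply {w : List ℕ} (hw : ∀ x ∈ w, x < D.k) (c : Fin D.N) :
    (ev h.lPerm w c).1 = walk D.T w c.1 := by
  induction w with
  | nil => rfl
  | cons x w ih =>
    rw [TC.ev_cons, Equiv.Perm.mul_apply, h.lPerm_apply (hw x (by simp)), ih fun y hy => hw y (by simp [hy])]
    rfl

theorem ev_rel {r : PowRel × ℕ} (hr : r ∈ D.rels) : ev h.lPerm r.1.1 ^ r.1.2 = h.zPerm ^ r.2 := by
  have hl := h.letters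
  simp only [Data.lettersOK, Bool.and_eq_true, List.all_eq_true] at hl
  have hw : ∀ m, ∀ x ∈ powWord r.1.1 m, x < D.k := by
    intro m
    induction m with
    | zero => intro x hx; simp [powWord] at hx
    | succ m ih =>
      intro x hx
      rw [powWord] at hx
      rcases List.mem_append.1 hx with hx | hx
      · exact Nat.le_of_ble_eq_true (hl.2 r hr x hx)
      · exact ih x hx
  rw [← ev_powWord]
  refine Equiv.ext fun c => ?_
  obtain ⟨hi, hc⟩ := h.cover c.2
  have hp : D.rep (D.idx c.1) < D.N := by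
    have := h.rep _ hi
    simp only [Data.repOK, Bool.and_eq_true] at this
    exact Nat.le_of_ble_eq_true this.1.1
  have hc' : c = (h.zPerm ^ D.sh c.1) ⟨D.rep (D.idx c.1), hp⟩ := Fin.ext (by rw [h.zPerm_pow]; exact hc.symm)
  have hcomm : Commute (h.zPerm ^ D.sh c.1) (ev h.lPerm (powWord r.1.1 r.1.2)) := by
    refine Commute.pow_left ?_ _
    generalize powWord r.1.1 r.1.2 = w
    induction w with
    | nil => exact Commute.one_right _
    | cons x w ih => rw [TC.ev_cons]; exact (h.commute_z x).mul_right ih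
  have hcomm' : Commute (h.zPerm ^ D.sh c.1) (h.zPerm ^ r.2) := (Commute.refl _).pow_pow _ _
  rw [hc', ← Equiv.Perm.mul_apply, ← Equiv.Perm.mul_apply, ← hcomm.eq, ← hcomm'.eq, Equiv.Perm.mul_apply,
    Equiv.Perm.mul_apply]
  refine congrArg _ (Fin.ext ?_)
  rw [h.ev_apply (hw _), h.zPerm_pow]
  have hr2 := h.rep _ hi
  simp only [Data.repOK, Bool.and_eq_true] at hr2
  exact Nat.eq_of_beq_eq_true (allB_spec hr2.2 r hr)

theorem sq_rel {x : ℕ} (hx : x < D.k) : h.lPerm x * h.lPerm x = h.zPerm ^ D.sq.getD x 0 := by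
  refine Equiv.ext fun c => Fin.ext ?_
  rw [Equiv.Perm.mul_apply, h.lPerm_apply hx, h.lPerm_apply hx, h.zPerm_pow, h.sq_apply hx c.2]

theorem orderOf_zPerm {ps : List ℕ} (hps : D.orderOK ps = true) : orderOf h.zPerm = D.d := by
  simp only [Data.orderOK, Bool.and_eq_true, List.all_eq_true, List.mem_range, Bool.or_eq_true, beq_iff_eq,
    List.any_eq_true, Bool.not_eq_true', beq_eq_false_iff_ne] at hps
  have hd : 0 < D.d := by
    have := h.letters
    simp only [Data.lettersOK, Bool.and_eq_true] at this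
    exact Nat.le_of_ble_eq_true this.1
  refine (orderOf_eq_iff hd).2 ⟨h.zPerm_order, fun j hj hj0 e => ?_⟩
  rcases hps.2 j hj with h0 | ⟨p, hp, hne⟩
  · omega
  · have := congrArg (fun f : Equiv.Perm (Fin D.N) => (f ⟨p, Nat.le_of_ble_eq_true (hps.1 p hp)⟩).1) e
    simp only [h.zPerm_pow, Equiv.Perm.one_apply] at this
    exact hne this

end Data.OK

section Exists

variable {G : Type} [Group G] [Finite G] {D}

/-- The cover. -/
theorem exists_cover (h : D.OK) (hG : commutator G = ⊤) {g : ℕ → G} (hsat : Sat D.k (D.rels.map Prod.fst) g)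
    (hgen : Subgroup.closure (g '' Set.Iio D.k) = ⊤)
    (hpres : Nat.card (Pres D.k (D.rels.map Prod.fst)) ≠ 0 ∧ Nat.card (Pres D.k (D.rels.map Prod.fst)) ≤ Nat.card G)
    {ps : List ℕ} (hps : D.orderOK ps = true) {cs cr : List ℕ} (hcomb : D.combOK cs cr = true) :
    ∃ (Γ : Type) (_ : Group Γ) (_ : Finite Γ) (σ : Γ →* G),
      Cfsg.IsStemExtension σ ∧ IsCyclic σ.ker ∧ Nat.card σ.ker = D.d := by
  classical
  let zp : Equiv.Perm (Fin D.N) × G := (h.zPerm, 1)
  let pr : ℕ → Equiv.Perm (Fin D.N) × G := fun x => (h.lPerm x, g x)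
  let S : Subgroup (Equiv.Perm (Fin D.N) × G) := Subgroup.closure (insert zp (pr '' Set.Iio D.k))
  have hzS : zp ∈ S := Subgroup.subset_closure (Set.mem_insert _ _)
  have hpS : ∀ x, x < D.k → pr x ∈ S := fun x hx =>
    Subgroup.subset_closure (Set.mem_insert_of_mem _ ⟨x, hx, rfl⟩)
  let z : S := ⟨zp, hzS⟩
  have hzc : z ∈ Subgroup.center S := by
    refine Subgroup.mem_center_iff.2 fun a => Subtype.ext ?_
    have key : ∀ b ∈ S, Commute b zp := by
      intro b hb
      induction hb using Subgroup.closure_induction with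
      | mem b hb =>
        rcases hb with rfl | ⟨x, -, rfl⟩
        · exact Commute.refl _
        · exact Prod.ext ((h.commute_z x).symm.eq) (by simp [pr, zp])
      | one => exact Commute.one_left _
      | mul a b _ _ ha hb => exact ha.mul_left hb
      | inv a _ ha => exact ha.inv_left
    exact key a.1 a.2
  let Z : Subgroup S := Subgroup.zpowers z
  have hZc : Z ≤ Subgroup.center S := Subgroup.zpowers_le.2 hzc
  haveI : Z.Normal := ⟨fun a ha b => by
    rw [Subgroup.mem_center_iff.1 (hZc ha) b, mul_assoc, mul_inv_cancel, mul_one]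
    exact ha⟩
  let σ : S →* G := (MonoidHom.snd _ _).comp S.subtype
  let q := QuotientGroup.mk' Z
  let gq : ℕ → S ⧸ Z := fun x => if hx : x < D.k then q ⟨pr x, hpS x hx⟩ else 1
  have hgq : ∀ x (hx : x < D.k), gq x = q ⟨pr x, hpS x hx⟩ := fun x hx => dif_pos hx
  have hl := h.letters
  simp only [Data.lettersOK, Bool.and_eq_true, List.all_eq_true] at hl
  have hevS : ∀ w : List ℕ, (∀ x ∈ w, x < D.k) → ev pr w ∈ S := fun w hw => TC.ev_mem fun x hx => hpS x (hw x hx)
  have hevq : ∀ (w : List ℕ) (hw : ∀ x ∈ w, x < D.k), ev gq w = q ⟨ev pr w, hevS w hw⟩ := by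
    intro w hw
    induction w with
    | nil => exact (map_one q).symm
    | cons x w ih =>
      rw [TC.ev_cons, hgq x (hw x (by simp)), ih fun y hy => hw y (by simp [hy]), ← map_mul]
      exact congrArg q (Subtype.ext (TC.ev_cons _ _ _).symm)
  have hevfst : ∀ w : List ℕ, (ev pr w).1 = ev h.lPerm w ∧ (ev pr w).2 = ev g w := fun w =>
    ⟨by rw [← MonoidHom.coe_fst, TC.map_ev]; rfl, by rw [← MonoidHom.coe_snd, TC.map_ev]; rfl⟩
  have hzpow : ∀ (a : S) (e : ℕ), (a.1.1 = h.zPerm ^ e) → a.1.2 = 1 → a = z ^ e := fun a e e1 e2 =>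
    Subtype.ext (Prod.ext (by rw [e1]; simp [z, zp]) (by rw [e2]; simp [z, zp]))
  have hsqz : ∀ x (hx : x < D.k), (⟨pr x, hpS x hx⟩ : S) * ⟨pr x, hpS x hx⟩ = z ^ D.sq.getD x 0 := fun x hx =>
    hzpow _ _ (h.sq_rel hx) (hsat.sq x)
  have hrelz : ∀ r ∈ D.rels, ∀ hw : ∀ x ∈ r.1.1, x < D.k,
      (⟨ev pr r.1.1, hevS _ hw⟩ : S) ^ r.1.2 = z ^ r.2 := fun r hr hw =>
    hzpow _ _ (by rw [Subgroup.coe_pow, Prod.pow_fst, (hevfst _).1, h.ev_rel hr])
      (by rw [Subgroup.coe_pow, Prod.pow_snd, (hevfst _).2, hsat.rel r.1 (List.mem_map_of_mem hr)])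
  have hq1 : ∀ e : ℕ, q (z ^ e) = 1 := fun e =>
    (QuotientGroup.eq_one_iff _).2 (Subgroup.pow_mem _ (Subgroup.mem_zpowers z) e)
  have hwl : ∀ r ∈ D.rels, ∀ x ∈ r.1.1, x < D.k := fun r hr x hx => Nat.le_of_ble_eq_true (hl.2 r hr x hx)
  have hsatq : Sat D.k (D.rels.map Prod.fst) gq := by
    refine ⟨fun x => ?_, fun x hx => dif_neg (Nat.not_lt.2 hx), fun r' hr' => ?_⟩
    · by_cases hx : x < D.k
      · rw [hgq x hx, ← map_mul, hsqz x hx, hq1]
      · simp [gq, hx]
    · obtain ⟨r, hr, rfl⟩ := List.mem_map.1 hr'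
      rw [hevq _ (hwl r hr), ← map_pow, hrelz r hr (hwl r hr), hq1]
  -- the index of the shift's subgroup
  have hgenS : Subgroup.closure (gq '' Set.Iio D.k) = ⊤ := by
    rw [eq_top_iff]
    rintro a -
    obtain ⟨⟨b, hb⟩, rfl⟩ := QuotientGroup.mk'_surjective Z a
    induction hb using Subgroup.closure_induction with
    | mem b hb =>
      rcases hb with rfl | ⟨x, hx, rfl⟩
      · rw [show q ⟨zp, hzS⟩ = 1 from (QuotientGroup.eq_one_iff _).2 (Subgroup.mem_zpowers z)]
        exact one_mem _
      · exact Subgroup.subset_closure ⟨x, hx, hgq x hx⟩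
    | one => exact (map_one q).symm ▸ one_mem _
    | mul a b ha hb iha ihb =>
      have := mul_mem iha ihb
      rwa [← map_mul] at this
    | inv a ha iha =>
      have := inv_mem iha
      rwa [← map_inv] at this
  haveI : Finite (Pres D.k (D.rels.map Prod.fst)) := Nat.finite_of_card_ne_zero hpres.1
  have hidx : Z.index ≤ Nat.card G := by
    rw [Subgroup.index_eq_card]
    exact (Nat.card_le_card_of_surjective _ (presHom_surjective hsatq hgenS)).trans hpres.2
  have hσs : Function.Surjective σ := by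
    rw [← MonoidHom.range_eq_top, eq_top_iff, ← hgen, Subgroup.closure_le]
    rintro _ ⟨x, hx, rfl⟩
    exact ⟨⟨pr x, hpS x hx⟩, rfl⟩
  have hZker : Z ≤ σ.ker := Subgroup.zpowers_le.2 rfl
  have hker : σ.ker = Z := by
    have h1 : σ.ker.index = Nat.card G := by
      rw [Subgroup.index_ker, MonoidHom.range_eq_top.2 hσs]
      exact Nat.card_congr Subgroup.topEquiv.toEquiv
    have h2 := Subgroup.index_antitone hZker
    have h3 : σ.ker.index ≤ Z.index := Nat.le_of_dvd (Nat.pos_of_ne_zero Z.index_ne_zero_of_finite) (Subgroup.index_dvd_of_le hZker)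
    have h4 : Nat.card Z * Z.index = Nat.card σ.ker * σ.ker.index := by
      rw [Subgroup.card_mul_index, Subgroup.card_mul_index]
    refine (Subgroup.eq_of_le_of_card_ge hZker ?_).symm
    rw [h1] at h4
    refine Nat.le_of_mul_le_mul_right ?_ (Nat.card_pos (α := G))
    rw [← h4]
    exact Nat.mul_le_mul_left _ hidx
  have hord : orderOf z = D.d := by
    rw [← Subgroup.orderOf_coe, Prod.orderOf, orderOf_one, Nat.lcm_one_right]
    exact h.orderOf_zPerm hps
  have hzd : z ^ D.d = 1 := by rw [← hord, pow_orderOf_eq_one]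
  -- the shift is in the derived subgroup
  have hcommu : z ∈ commutator S := by
    let φ : S →* Abelianization S := Abelianization.of
    have himg : ∀ a : S, ∃ j : ℤ, φ a = φ z ^ j := by
      intro a
      have hm : (commutator S).map σ = ⊤ := by
        rw [commutator_def, Subgroup.map_commutator, Subgroup.map_top_of_surjective σ hσs, ← commutator_def, hG]
      obtain ⟨c, hc, e⟩ : σ a ∈ (commutator S).map σ := by rw [hm]; trivial
      have hk : c⁻¹ * a ∈ Z := by
        rw [← hker, MonoidHom.mem_ker, map_mul, map_inv, e, inv_mul_cancel]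
      obtain ⟨j, hj⟩ := Subgroup.mem_zpowers_iff.1 hk
      refine ⟨j, ?_⟩
      have hc1 : φ c = 1 := (QuotientGroup.eq_one_iff _).2 hc
      rw [show a = c * (c⁻¹ * a) by group, map_mul, hc1, one_mul, ← hj, map_zpow]
    have hexp : ∀ a : Abelianization S, a ^ D.d = 1 := by
      intro a
      obtain ⟨a, rfl⟩ := QuotientGroup.mk_surjective a
      obtain ⟨j, hj⟩ := himg a
      show φ a ^ D.d = 1
      rw [hj, ← zpow_natCast, ← zpow_mul, mul_comm, zpow_mul, zpow_natCast, ← map_pow, hzd, map_one, one_zpow]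
    let α : ℕ → Abelianization S := fun x => if hx : x < D.k then φ ⟨pr x, hpS x hx⟩ else 1
    have hsqa : ∀ x, x < D.k → α x ^ 2 = φ z ^ D.sq.getD x 0 := fun x hx => by
      simp only [α, dif_pos hx]
      rw [pow_two, ← map_mul, hsqz x hx, map_pow]
    have hcount : ∀ w : List ℕ, (∀ x ∈ w, x < D.k) →
        (w.map α).prod = ∏ x ∈ Finset.range D.k, α x ^ w.count x := by
      intro w hw
      induction w with
      | nil => simp
      | cons y w ih =>
        rw [List.map_cons, List.prod_cons, ih fun x hx => hw x (by simp [hx])]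
        simp only [List.count_cons, pow_add, Finset.prod_mul_distrib]
        rw [mul_comm]
        congr 1
        rw [Finset.prod_eq_single y (fun b _ hb => by simp [Ne.symm hb])
          (fun hn => absurd (Finset.mem_range.2 (hw y (by simp))) hn)]
        simp
    have hwordq : ∀ (w : List ℕ) (hw : ∀ x ∈ w, x < D.k), φ ⟨ev pr w, hevS w hw⟩ = (w.map α).prod := by
      intro w hw
      induction w with
      | nil => exact map_one φ
      | cons x w ih =>
        have hw' : ∀ y ∈ w, y < D.k := fun y hy => hw y (by simp [hy])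
        rw [List.map_cons, List.prod_cons, ← ih hw']
        simp only [α, dif_pos (hw x (by simp)), ← map_mul]
        exact congrArg φ (Subtype.ext (TC.ev_cons _ _ _))
    have hrel : ∀ r, r < D.rels.length →
        ∏ x ∈ Finset.range D.k, α x ^ ((D.rels.getD r (([], 0), 0)).1.2 * (D.rels.getD r (([], 0), 0)).1.1.count x) =
          φ z ^ (D.rels.getD r (([], 0), 0)).2 := by
      intro r hr
      have hm : D.rels.getD r (([], 0), 0) ∈ D.rels := by
        rw [List.getD_eq_getElem _ _ hr]; exact List.getElem_mem hr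
      rw [← map_pow, ← hrelz _ hm (hwl _ hm), map_pow, hwordq _ (hwl _ hm), hcount _ (hwl _ hm), ← Finset.prod_pow]
      exact Finset.prod_congr rfl fun x _ => by rw [← pow_mul, Nat.mul_comm]
    simp only [Data.combOK, Bool.and_eq_true, List.all_eq_true, List.mem_range, beq_iff_eq] at hcomb
    obtain ⟨hdiv, hone⟩ := hcomb
    have hlist : ∀ (M : Type) [CommMonoid M] (a : M) (f : ℕ → ℕ) (l : List ℕ),
        (l.map fun i => a ^ f i).prod = a ^ (l.map f).sum := fun M _ a f l => by
      induction l with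
      | nil => simp
      | cons i l ih => simp [ih, pow_add]
    have hrange : ∀ (n : ℕ) (f : ℕ → ℕ), ((List.range n).map f).sum = ∑ i ∈ Finset.range n, f i := fun n f => by
      rw [← Multiset.sum_coe, ← Multiset.map_coe]; rfl
    simp only [hrange] at hdiv hone
    have e0 : (1 : Abelianization S) = ∏ x ∈ Finset.range D.k, α x ^ (2 * cs.getD x 0 +
        ∑ r ∈ Finset.range D.rels.length, cr.getD r 0 *
          ((D.rels.getD r (([], 0), 0)).1.2 * (D.rels.getD r (([], 0), 0)).1.1.count x)) := by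
      refine (Finset.prod_eq_one fun x hx => ?_).symm
      obtain ⟨q, hq⟩ := Nat.dvd_of_mod_eq_zero (hdiv x (Finset.mem_range.1 hx))
      rw [hq, pow_mul, hexp, one_pow]
    have e1 : φ z = 1 := by
      rw [e0]
      simp only [pow_add, Finset.prod_mul_distrib, ← Finset.prod_pow_eq_pow_sum]
      rw [Finset.prod_comm (s := Finset.range D.k)]
      have ea : ∀ x ∈ Finset.range D.k, α x ^ (2 * cs.getD x 0) = φ z ^ (cs.getD x 0 * D.sq.getD x 0) :=
        fun x hx => by rw [pow_mul, hsqa x (Finset.mem_range.1 hx), ← pow_mul, Nat.mul_comm]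
      have eb : ∀ r ∈ Finset.range D.rels.length, (∏ x ∈ Finset.range D.k, α x ^ (cr.getD r 0 *
          ((D.rels.getD r (([], 0), 0)).1.2 * (D.rels.getD r (([], 0), 0)).1.1.count x))) =
            φ z ^ (cr.getD r 0 * (D.rels.getD r (([], 0), 0)).2) := fun r hr => by
        rw [Nat.mul_comm (cr.getD r 0) (D.rels.getD r (([], 0), 0)).2, pow_mul, ← hrel r (Finset.mem_range.1 hr),
          ← Finset.prod_pow]
        exact Finset.prod_congr rfl fun x _ => by rw [← pow_mul, Nat.mul_comm]
      rw [Finset.prod_congr rfl ea, Finset.prod_congr rfl eb, Finset.prod_pow_eq_pow_sum,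
        Finset.prod_pow_eq_pow_sum, ← pow_add]
      obtain ⟨q, hq⟩ : ∃ q, ∑ x ∈ Finset.range D.k, cs.getD x 0 * D.sq.getD x 0 +
          ∑ r ∈ Finset.range D.rels.length, cr.getD r 0 * (D.rels.getD r (([], 0), 0)).2 = D.d * q + 1 :=
        ⟨_, (Nat.div_add_mod _ D.d).symm.trans (by rw [hone])⟩
      rw [hq, pow_add, pow_mul, hexp, one_pow, one_mul, pow_one]
    exact (QuotientGroup.eq_one_iff _).1 e1
  refine ⟨↥S, inferInstance, inferInstance, σ, ⟨hσs, hker.le.trans hZc, ?_⟩, ?_, ?_⟩
  · exact hker.le.trans (Subgroup.zpowers_le.2 hcommu)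
  · rw [hker]
    exact Subgroup.isCyclic_zpowers z
  · rw [hker, Nat.card_zpowers, hord]

end Exists

end CfsgLib.Spor.Mults.Cover
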