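import Cfsg.Agent.Lib.Spor.TC.Steps
import Cfsg.Agent.Lib.Spor.TC.CheckWide
import Cfsg.Agent.Lib.Spor.Mults.Basic

/-!
Presented involutions inside a packed permutation group, and bounds of orders from enumerations.
-/

set_option autoImplicit false

namespace CfsgLib.Spor.Mults

open CfsgLib.Spor.PermCert CfsgLib.Spor.SchurCert CfsgLib.Spor.TC

/-- The words satisfy the relators at the base, and their products give whole orbits along it. -/
def satOK (n w : ℕ) (R : Rows) (len : ℕ) (bs : List ℕ) (ws : List (List ℕ)) (rels : List PowRel)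
    (T : List (ℕ × List (ℕ × List ℕ))) : Bool :=
  (ws.all fun s => s.all fun x => Nat.blt x len) &&
    ((List.range ws.length).all fun i => sameC w R len bs (spell ws [i, i]) []) &&
    (rels.all fun r => (r.1.all fun x => Nat.blt x ws.length) && sameC w R len bs (spell ws (powWord r.1 r.2)) []) &&
    subPermOK n w R ws [] T

variable {n : ℕ} [NeZero n] {w : ℕ} {R : Rows} {len : ℕ} {bs : List ℕ} {Ts : List (List ℕ)}
  {H : Subgroup (Equiv.Perm (Fin n))}

/-- From the checks: generators satisfying the relators. -/
theorem Packed.exists_sat (D : Packed w R len bs Ts H) {ws : List (List ℕ)} {rels : List PowRel}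
    {T : List (ℕ × List (ℕ × List ℕ))} (h : satOK n w R len bs ws rels T = true)
    (hT : (Ts.map List.length).prod ≤ (T.map fun e => e.2.length).prod) :
    ∃ g : ℕ → ↥H, Sat ws.length rels g ∧ Subgroup.closure (g '' Set.Iio ws.length) = ⊤ := by
  simp only [satOK, Bool.and_eq_true, List.all_eq_true, List.mem_range] at h
  obtain ⟨⟨⟨hws, hsq⟩, hrel⟩, hsub⟩ := h
  have hlt : ∀ s ∈ ws, ∀ x ∈ s, x < len := fun s hs x hx => Nat.le_of_ble_eq_true (hws s hs x hx)
  have hone : welt D.mem [] = 1 := by
    refine Subtype.ext (Equiv.ext fun i => Fin.ext ?_)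
    rw [welt_spec D.mem (us := []) (by simp)]
    rfl
  have hsame : ∀ {v : List ℕ}, sameC w R len bs (spell ws v) [] = true → wv (fun i => welt D.mem (ws.getD i [])) v = 1 := by
    intro v hv
    simp only [sameC, Bool.and_eq_true, List.all_eq_true] at hv
    rw [← welt_spell D.mem hlt, ← hone]
    refine Subtype.ext (eq_of_base D.mem D.chain D.card (welt D.mem _).2 (welt D.mem _).2 fun b hb => Fin.ext ?_)
    rw [welt_spec D.mem (spell_lt hlt v), welt_spec D.mem (us := []) (by simp), pnt_val (D.lt b hb)]
    exact Nat.eq_of_beq_eq_true (hv.2 b hb)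
  refine ⟨fun i => welt D.mem (ws.getD i []), ⟨fun x => ?_, fun x hx => ?_, fun r hr => ?_⟩, ?_⟩
  · by_cases hx : x < ws.length
    · have := hsame (hsq x hx)
      simpa [wv_cons, wv_nil] using this
    · show welt D.mem (ws.getD x []) * welt D.mem (ws.getD x []) = 1
      rw [List.getD_eq_default _ _ (by omega), hone, one_mul]
  · show welt D.mem (ws.getD x []) = 1
    rw [List.getD_eq_default _ _ hx, hone]
  · rw [← ev_powWord]
    exact hsame (hrel r hr).2
  · set γ := fun i => welt D.mem (ws.getD i [])
    set S := Subgroup.closure (γ '' Set.Iio ws.length)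
    refine Subgroup.eq_top_of_le_card S ?_
    have hS : ∀ v : List ℕ, (∀ i ∈ v, i < ws.length) → welt D.mem (spell ws v) ∈ S := fun v hv => by
      rw [welt_spell D.mem hlt]
      refine list_prod_mem fun a ha => ?_
      obtain ⟨i, hi, rfl⟩ := List.mem_map.1 ha
      exact Subgroup.subset_closure ⟨i, hv i hi, rfl⟩
    have h1 := subPerm_count D.mem hlt S hS T [] (by simp) hsub
    have e0 : fixSub (S.map H.subtype) [] = S.map H.subtype := by ext a; simp [mem_fixSub]
    rw [e0, Subgroup.card_subtype] at h1
    rw [D.card]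
    exact hT.trans h1

/-- The order bound from an enumeration over the trivial subgroup. -/
theorem card_le_wide_bot {k m : ℕ} {rels : List PowRel}
    (h : (presSub k rels []).index ≠ 0 ∧ (presSub k rels []).index ≤ m) :
    Nat.card (Pres k rels) ≠ 0 ∧ Nat.card (Pres k rels) ≤ m := by
  rwa [show presSub k rels [] = ⊥ by simp [presSub], Subgroup.index_bot] at h

end CfsgLib.Spor.Mults
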