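import Cfsg.Agent.Lib.Spor.Mults.Basic

/-!
Central extensions of perfect groups are stem extensions once the kernel lies in the derived subgroup.
-/

set_option autoImplicit false

namespace CfsgLib.Spor.Mults

open Subgroup
open scoped commutatorElement

/-- A non-commutative simple group is perfect. -/
theorem commutator_eq_top_of_simple {G : Type*} [Group G] [IsSimpleGroup G] (h : ∃ a b : G, a * b ≠ b * a) :
    commutator G = ⊤ := by
  refine (Subgroup.Normal.eq_bot_or_eq_top (H := commutator G) inferInstance).resolve_left fun hb => ?_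
  obtain ⟨a, b, hab⟩ := h
  refine hab (commutatorElement_eq_one_iff_mul_comm.1 ?_)
  rw [← Subgroup.mem_bot, ← hb, commutator_def]
  exact commutator_mem_commutator (mem_top a) (mem_top b)

variable {Γ : Type*} [Group Γ] {G : Type*} [Group G] {π : Γ →* G}

/-- A `d`th power in the kernel lies in the derived subgroup, when `d`th powers of the kernel vanish. -/
theorem pow_mem_commutator (hsur : Function.Surjective π) (hG : commutator G = ⊤) (hcen : π.ker ≤ center Γ)
    {d : ℕ} (hd : ∀ k ∈ π.ker, k ^ d = 1) (x : Γ) : x ^ d ∈ commutator Γ ⊔ (⊥ : Subgroup Γ) := by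
  rw [sup_bot_eq]
  have hm : (commutator Γ).map π = ⊤ := by
    rw [commutator_def, map_commutator, Subgroup.map_top_of_surjective π hsur, ← commutator_def, hG]
  obtain ⟨c, hc, e⟩ : π x ∈ (commutator Γ).map π := by rw [hm]; trivial
  have hk : c⁻¹ * x ∈ π.ker := by rw [MonoidHom.mem_ker, map_mul, map_inv, e, inv_mul_cancel]
  have hcomm : Commute c (c⁻¹ * x) := mem_center_iff.1 (hcen hk) c
  rw [show x = c * (c⁻¹ * x) by group, hcomm.mul_pow, hd _ hk, mul_one]
  exact pow_mem hc d

/-- A central extension with cyclic kernel of exponent `d` whose generator is a `d`th power is a stem extension. -/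
theorem isStem_of_pow (hsur : Function.Surjective π) (hG : commutator G = ⊤) {z : Γ} (hker : π.ker ≤ zpowers z)
    (hcen : π.ker ≤ center Γ) {d : ℕ} (hd : z ^ d = 1) (x : Γ) (hx : x ^ d = z) : Cfsg.IsStemExtension π := by
  refine ⟨hsur, hcen, fun k hk => ?_⟩
  obtain ⟨i, rfl⟩ := mem_zpowers_iff.1 (hker hk)
  refine zpow_mem ?_ i
  have h := pow_mem_commutator hsur hG hcen (d := d) (fun k hk => by
    obtain ⟨j, rfl⟩ := mem_zpowers_iff.1 (hker hk)
    rw [← zpow_natCast, ← zpow_mul, mul_comm, zpow_mul, zpow_natCast, hd, one_zpow]) x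
  rw [sup_bot_eq, hx] at h
  exact h

end CfsgLib.Spor.Mults
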