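import Cfsg.Agent.Lib.Spor.Mults.Basic

/-!
With one linear dimension left at a prime, the prime part of the kernel is cyclic.
-/

set_option autoImplicit false

namespace CfsgLib.Spor.Mults

open Subgroup CfsgLib.Spor.PermCert CfsgLib.Spor.SchurCert
open scoped commutatorElement

/-- A certificate modulo the prime leaving at most one dimension: the prime part of the kernel is cyclic. -/
theorem pGroup_isCyclic (C : Cert) {Γ : Type*} [Group Γ] [Finite Γ] {G : Type*} [Group G] {σ : Γ →* G}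
    (hσ : Cfsg.IsStemExtension σ) [hp : Fact C.p.Prime] (hN : C.N = C.p) (hb : C.bound ≤ C.p) (γ : ℕ → G)
    (conj : ℕ → G)
    (hrules : ∀ r, r < C.rules.length → wv γ (C.rules.getD r ([], [])).1 = wv γ (C.rules.getD r ([], [])).2)
    (hmaps : ∀ f, f < C.maps.length → ∀ i, i < (C.pairs f).length →
      conj f * wv γ ((C.pairs f).getD i ([], [])).1 * (conj f)⁻¹ = wv γ ((C.pairs f).getD i ([], [])).2)
    (hshape : C.shapeOK = true) (hlin : C.linOK = true)
    (hcard : C.p ^ C.m ≤ Nat.card (closure (γ '' {i | i < C.m}) : Subgroup G))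
    (hindex : ¬ C.p ∣ (closure (γ '' {i | i < C.m}) : Subgroup G).index)
    (P : Subgroup Γ) (hP : P ≤ σ.ker) (hPp : IsPGroup C.p P) : IsCyclic P := by
  have hcen := hσ.2.1
  letI : CommGroup σ.ker :=
    { (inferInstance : Group σ.ker) with
      mul_comm := fun a b => Subtype.ext (mem_center_iff.1 (hcen b.2) a) }
  let K : Subgroup Γ := (powMonoidHom C.N : σ.ker →* σ.ker).range.map σ.ker.subtype
  have hK : K ≤ σ.ker := map_subtype_le _
  have hKn : K.Normal := ⟨fun k hk g => by rwa [mem_center_iff.1 (hcen (hK hk)) g, mul_inv_cancel_right]⟩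
  let π := QuotientGroup.mk' K
  let τ : Γ ⧸ K →* G := QuotientGroup.lift K σ hK
  have hπ : Function.Surjective π := QuotientGroup.mk'_surjective K
  have hτs : Function.Surjective τ := fun g => by
    obtain ⟨x, rfl⟩ := hσ.1 g
    exact ⟨π x, rfl⟩
  have hτk : ∀ d ∈ τ.ker, ∃ x ∈ σ.ker, π x = d := fun d hd => by
    obtain ⟨x, rfl⟩ := hπ d
    exact ⟨x, hd, rfl⟩
  have hτc : τ.ker ≤ center (Γ ⧸ K) := fun d hd => mem_center_iff.2 fun g => by
    obtain ⟨x, hx, rfl⟩ := hτk d hd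
    obtain ⟨y, rfl⟩ := hπ g
    rw [← map_mul, ← map_mul, mem_center_iff.1 (hcen hx) y]
  have hτN : ∀ d ∈ τ.ker, d ^ C.N = 1 := fun d hd => by
    obtain ⟨x, hx, rfl⟩ := hτk d hd
    rw [← map_pow]
    exact (QuotientGroup.eq_one_iff _).2 ⟨⟨x, hx⟩ ^ C.N, ⟨⟨x, hx⟩, rfl⟩, rfl⟩
  obtain ⟨B, hB, hle⟩ := kernel_bound C τ hτs hτc hτN γ conj hrules hmaps hshape hlin hcard
  set S := closure (γ '' {i | i < C.m})
  have hmem : ∀ z : Γ, z ∈ σ.ker → (∃ k, orderOf z = C.p ^ k) → π z ∈ B := by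
    rintro z hz ⟨k, hk⟩
    refine hle ⟨?_, (show σ z = 1 from hz)⟩
    have hcop : Nat.Coprime (orderOf z) S.index := by
      rw [hk]
      exact ((Nat.Prime.coprime_iff_not_dvd hp.out).2 hindex).pow_left k
    have hzH : z ∈ S.comap σ := by
      show σ z ∈ S
      rw [(show σ z = 1 from hz)]
      exact one_mem S
    have hzc := Lie.MultSylow.mem_commutator_comap hσ hz hcop hzH
    have hmap : (⁅S.comap σ, S.comap σ⁆ : Subgroup Γ).map π ≤ ⁅S.comap τ, S.comap τ⁆ := by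
      rw [map_commutator]
      exact commutator_mono (map_le_iff_le_comap.2 fun x hx => hx) (map_le_iff_le_comap.2 fun x hx => hx)
    refine hmap ⟨z, ?_, rfl⟩
    rw [← map_subtype_commutator]
    exact ⟨_, hzc, rfl⟩
  -- all p-elements of the kernel
  let Q : Subgroup σ.ker := CommGroup.primaryComponent σ.ker C.p
  have hQ : ∀ {x : σ.ker}, x ∈ Q ↔ ∃ k, orderOf x = C.p ^ k := fun {x} => by
    refine CommGroup.mem_primaryComponent.trans ⟨fun ⟨k, hk⟩ => ?_, fun ⟨k, hk⟩ => ⟨k, by rw [← hk, pow_orderOf_eq_one]⟩⟩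
    obtain ⟨i, -, hi⟩ := (Nat.dvd_prime_pow hp.out).1 (orderOf_dvd_of_pow_eq_one hk)
    exact ⟨i, hi⟩
  have hPQ : P ≤ Q.map σ.ker.subtype := fun a ha => by
    refine ⟨⟨a, hP ha⟩, hQ.2 ?_, rfl⟩
    obtain ⟨k, hk⟩ := IsPGroup.iff_orderOf.1 hPp ⟨a, ha⟩
    exact ⟨k, by rwa [← Subgroup.orderOf_coe] at hk ⊢⟩
  let f : Q →* Γ ⧸ K := π.comp (σ.ker.subtype.comp Q.subtype)
  have hfB : f.range ≤ B := by
    rintro _ ⟨a, rfl⟩
    obtain ⟨k, hk⟩ := hQ.1 a.2
    exact hmem _ a.1.2 ⟨k, show orderOf ((a.1 : σ.ker) : Γ) = _ by rw [Subgroup.orderOf_coe, hk]⟩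
  have hfcard : Nat.card f.range ≤ C.p :=
    ((Nat.le_of_dvd Nat.card_pos (Subgroup.card_dvd_of_le hfB)).trans hB).trans hb
  have hfker : ∀ a : Q, f a = 1 → ∃ w : Q, w ^ C.p = a := fun a ha => by
    obtain ⟨_, ⟨w, rfl⟩, hw⟩ := (QuotientGroup.eq_one_iff _).1 ha
    have e : w ^ C.p = (a : σ.ker) := Subtype.ext (by rw [← hN]; exact hw)
    obtain ⟨k, hk⟩ := hQ.1 a.2
    have h1 : w ^ C.p ^ (k + 1) = 1 := by rw [pow_succ', pow_mul, e, ← hk, pow_orderOf_eq_one]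
    obtain ⟨i, -, hi⟩ := (Nat.dvd_prime_pow hp.out).1 (orderOf_dvd_of_pow_eq_one h1)
    exact ⟨⟨w, hQ.2 ⟨i, hi⟩⟩, Subtype.ext e⟩
  -- one element covers the image
  obtain ⟨a, ha⟩ : ∃ a : Q, ∀ x : Q, ∃ i : ℤ, f x = f a ^ i := by
    by_cases h : ∃ a : Q, f a ≠ 1
    · obtain ⟨a, ha⟩ := h
      refine ⟨a, fun x => ?_⟩
      have hd : zpowers (f a) ≤ f.range := zpowers_le.2 ⟨a, rfl⟩
      obtain ⟨k, hk⟩ := hQ.1 a.2
      have ho : orderOf (f a) ∣ C.p ^ k := by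
        rw [← hk, Subgroup.orderOf_coe]; exact orderOf_map_dvd f a
      obtain ⟨j, -, hj⟩ := (Nat.dvd_prime_pow hp.out).1 ho
      have h1 : C.p ≤ Nat.card (zpowers (f a)) := by
        have hj0 : j ≠ 0 := fun h0 => ha (orderOf_eq_one_iff.1 (by rw [hj, h0, pow_zero]))
        rw [Nat.card_zpowers, hj]
        exact Nat.le_self_pow hj0 C.p
      have heq := Subgroup.eq_of_le_of_card_ge hd (hfcard.trans h1)
      have : f x ∈ zpowers (f a) := by rw [heq]; exact ⟨x, rfl⟩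
      obtain ⟨i, hi⟩ := mem_zpowers_iff.1 this
      exact ⟨i, hi.symm⟩
    · push Not at h
      exact ⟨1, fun x => ⟨0, by simp [h x]⟩⟩
  have hstep : ∀ (k : ℕ) (x : Q), ∃ (i : ℤ) (w : Q), x = a ^ i * w ^ C.p ^ k := by
    intro k
    induction k with
    | zero => exact fun x => ⟨0, x, by simp⟩
    | succ k ih =>
      intro x
      obtain ⟨i, w, rfl⟩ := ih x
      obtain ⟨j, hj⟩ := ha w
      obtain ⟨v, hv⟩ := hfker (w * (a ^ j)⁻¹) (by rw [map_mul, map_inv, map_zpow, hj, mul_inv_cancel])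
      refine ⟨i + j * (C.p ^ k : ℕ), v, ?_⟩
      have hwe : w = v ^ C.p * a ^ j := by rw [hv, inv_mul_cancel_right]
      rw [hwe, mul_pow, ← pow_mul, zpow_add, zpow_mul, zpow_natCast, pow_succ', mul_comm ((v : Q) ^ _),
        mul_assoc]
  have hcyc : IsCyclic Q := by
    obtain ⟨N, hN'⟩ := IsPGroup.iff_card.1 (show IsPGroup C.p Q from IsPGroup.iff_orderOf.2 fun x => by
      obtain ⟨k, hk⟩ := hQ.1 x.2
      exact ⟨k, by rwa [← Subgroup.orderOf_coe]⟩)
    refine ⟨a, fun x => ?_⟩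
    obtain ⟨i, w, rfl⟩ := hstep N x
    exact ⟨i, by rw [← hN', pow_card_eq_one', mul_one]⟩
  have hmap : IsCyclic (Q.map σ.ker.subtype) :=
    (Subgroup.equivMapOfInjective Q σ.ker.subtype σ.ker.subtype_injective).isCyclic.1 hcyc
  exact isCyclic_of_injective (Subgroup.inclusion hPQ) (Subgroup.inclusion_injective hPQ)

variable {n : ℕ} [NeZero n] {w : ℕ} {R : Rows} {len : ℕ} {bs : List ℕ} {Ts : List (List ℕ)}
  {H : Subgroup (Equiv.Perm (Fin n))} {Γ : Type*} [Group Γ] [Finite Γ]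

/-- Cyclicity at the prime of the certificate. -/
theorem Packed.isCyclic (D : Packed w R len bs Ts H) {σ : Γ →* ↥H} (hσ : Cfsg.IsStemExtension σ) (C : Cert)
    [Fact C.p.Prime] (sw gw : List (List ℕ)) (T : List (ℕ × List (ℕ × List ℕ))) (hN : C.N = C.p)
    (hb : C.bound ≤ C.p) (hfac : (Nat.card ↥H).factorization C.p = C.m)
    (hid : identPerm w R len bs C sw gw = true) (hsub : subPermOK n w R sw [] T = true)
    (hT : C.p ^ C.m ≤ (T.map fun e => e.2.length).prod) (hshape : C.shapeOK = true) (hlin : C.linOK = true)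
    (P : Subgroup Γ) (hP : P ≤ σ.ker) (hPp : IsPGroup C.p P) : IsCyclic P := by
  obtain ⟨γ, conj, h1, h2, h3, h4⟩ :=
    perm_facts D.mem D.chain D.card D.lt C sw gw T hfac hid hsub hT hshape
  exact pGroup_isCyclic C hσ hN hb γ conj h1 h2 hshape hlin h3 h4 P hP hPp

end CfsgLib.Spor.Mults
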