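import Cfsg.Agent.Lib.Spor.Mults.Basic
import Cfsg.Agent.Lib.Spor.OuterAut

/-!
Subgroups of the permutations of the twenty-four points, transported to packed permutations.
-/

set_option autoImplicit false

namespace CfsgLib.Spor.Mults

open Cfsg CfsgLib.Spor CfsgLib.Spor.PermCert

/-- The twenty-four points numbered. -/
def ptEquiv : GolayPt ≃ Fin 24 where
  toFun p := ⟨ptIdx p, ptIdx_lt p⟩
  invFun i := idxPt i.1
  left_inv p := idxPt_ptIdx p
  right_inv i := Fin.ext (ptIdx_idxPt i.1 i.2)

/-- A subgroup on numbered points. -/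
def numbered (K : Subgroup (Equiv.Perm GolayPt)) : Subgroup (Equiv.Perm (Fin 24)) :=
  K.map (ptEquiv.permCongrHom : Equiv.Perm GolayPt ≃* Equiv.Perm (Fin 24)).toMonoidHom

/-- The same group on numbered points. -/
noncomputable def numberedEquiv (K : Subgroup (Equiv.Perm GolayPt)) : ↥K ≃* ↥(numbered K) :=
  Subgroup.equivMapOfInjective K _ (ptEquiv.permCongrHom : Equiv.Perm GolayPt ≃* Equiv.Perm (Fin 24)).injective

theorem card_numbered (K : Subgroup (Equiv.Perm GolayPt)) : Nat.card ↥(numbered K) = Nat.card ↥K :=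
  (Nat.card_congr (numberedEquiv K).toEquiv).symm

/-- A code in the subgroup is a packed generator. -/
theorem exists_matches {K : Subgroup (Equiv.Perm GolayPt)} {R : Rows} {k c : ℕ} (hc : isPermCode c = true)
    (hK : permOf c ∈ K) (hlook : ∀ i < 24, permFn c i = look 5 R k i) :
    ∃ g ∈ numbered K, Matches 5 g R k := by
  refine ⟨ptEquiv.permCongrHom (permOf c), ⟨_, hK, rfl⟩, fun i => ?_⟩
  show ptIdx (permOf c (idxPt i.1)) = _
  rw [permOf_idxPt hc i.2, ptIdx_idxPt _ (permFn_lt hc i.2), hlook i.1 i.2]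

end CfsgLib.Spor.Mults
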