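import Cfsg.Agent.Lib.Spor.Mults.Basic
import Cfsg.Prelude.Def_KGroupFacts

/-!
Cyclic multipliers from a cover and a bound, transported along an isomorphism.
-/

set_option autoImplicit false

namespace CfsgLib.Spor.Mults

open scoped commutatorElement

/-- A finite simple group whose order is not prime is perfect. -/
theorem commutator_eq_top_of_card {G : Type*} [Group G] [Finite G] [IsSimpleGroup G]
    (h : ¬ (Nat.card G).Prime) : commutator G = ⊤ := by
  refine (Subgroup.Normal.eq_bot_or_eq_top (H := commutator G) inferInstance).resolve_left fun hb => h ?_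
  letI : CommGroup G :=
    { (inferInstance : Group G) with
      mul_comm := fun a b => commutatorElement_eq_one_iff_mul_comm.1 (by
        rw [← Subgroup.mem_bot, ← hb, commutator_def]
        exact Subgroup.commutator_mem_commutator (Subgroup.mem_top a) (Subgroup.mem_top b)) }
  exact IsSimpleGroup.prime_card

/-- A cyclic group maps onto every cyclic group of order dividing its own. -/
theorem exists_surj_zmod {K : Type*} [Group K] [Finite K] [IsCyclic K] {d : ℕ} (h : Nat.card K ∣ d) :
    ∃ π : Multiplicative (ZMod d) →* K, Function.Surjective π := by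
  let eK : Multiplicative (ZMod (Nat.card K)) ≃* K := zmodCyclicMulEquiv (inferInstance : IsCyclic K)
  let f : Multiplicative (ZMod d) →* Multiplicative (ZMod (Nat.card K)) :=
    AddMonoidHom.toMultiplicative (ZMod.castHom h (ZMod (Nat.card K))).toAddMonoidHom
  refine ⟨eK.toMonoidHom.comp f, eK.surjective.comp fun a => ?_⟩
  obtain ⟨b, hb⟩ := ZMod.ringHom_surjective (ZMod.castHom h (ZMod (Nat.card K))) a.toAdd
  exact ⟨Multiplicative.ofAdd b, congrArg Multiplicative.ofAdd hb⟩

/-- The multiplier from a cyclic cover and a cyclic bound. -/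
theorem hasCyclic_of {G : Type} [Group G] {H : Type} [Group H] (e : G ≃* H) {d : ℕ}
    (cover : ∃ (Γ : Type) (_ : Group Γ) (_ : Finite Γ) (σ : Γ →* H),
      Cfsg.IsStemExtension σ ∧ IsCyclic σ.ker ∧ Nat.card σ.ker = d)
    (bound : ∀ (Γ : Type) [Group Γ] [Finite Γ] (σ : Γ →* H), Cfsg.IsStemExtension σ →
      IsCyclic σ.ker ∧ Nat.card σ.ker ∣ d) :
    Cfsg.HasCyclicSchurMultiplier G d := by
  obtain ⟨Γ, i1, i2, σ, hσ, hcyc, hc⟩ := cover
  have hz : Nat.card (Multiplicative (ZMod d)) = d :=
    (Nat.card_congr Multiplicative.toAdd).trans (Nat.card_zmod d)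
  have hk := MonoidHom.ker_comp_of_injective σ e.symm.toMonoidHom e.symm.injective
  refine ⟨⟨Γ, i1, i2, e.symm.toMonoidHom.comp σ,
    ⟨e.symm.surjective.comp hσ.1, hk.le.trans hσ.2.1, hk.le.trans hσ.2.2⟩,
    ⟨(MulEquiv.subgroupCongr hk).trans (mulEquivOfCyclicCardEq (hc.trans hz.symm))⟩⟩, fun Δ _ _ τ hτ => ?_⟩
  have hk' := MonoidHom.ker_comp_of_injective τ e.toMonoidHom e.injective
  obtain ⟨hcy, hdvd⟩ := bound Δ (e.toMonoidHom.comp τ)
    ⟨e.surjective.comp hτ.1, hk'.le.trans hτ.2.1, hk'.le.trans hτ.2.2⟩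
  haveI := hcy
  obtain ⟨π, hπ⟩ := exists_surj_zmod hdvd
  exact ⟨(MulEquiv.subgroupCongr hk').toMonoidHom.comp π, (MulEquiv.subgroupCongr hk').surjective.comp hπ⟩

/-- A kernel of order dividing a prime is cyclic. -/
theorem cyclic_of_dvd_prime {K : Type*} [Group K] [Finite K] {p : ℕ} (hp : p.Prime) (h : Nat.card K ∣ p) :
    IsCyclic K ∧ Nat.card K ∣ p := by
  refine ⟨?_, h⟩
  rcases (Nat.dvd_prime hp).1 h with h1 | h1
  · haveI : Subsingleton K := (Nat.card_eq_one_iff_unique.1 h1).1
    exact isCyclic_of_subsingleton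
  · haveI : Fact p.Prime := ⟨hp⟩
    exact isCyclic_of_prime_card h1

end CfsgLib.Spor.Mults
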